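import Groth.Agent.Lib.Wiebe.Bridge
import Groth.Agent.H25.QuotBlow.Quot
import Mathlib.Algebra.MvPolynomial.Basic
import Mathlib.RingTheory.MvPolynomial.Basic
import Mathlib.RingTheory.Ideal.Quotient.Operations

/-!
The charts of the scheme of hyperplane quotients of the cokernel of a Koszul-regular sequence, and
the Fitting ideals of that cokernel.
-/

set_option autoImplicit false
set_option linter.style.haveILetI false
universe u

open Groth.Agent.Lib.TorObstruction.Cube Groth.Agent.Lib.Wiebe.Exterior Groth.Agent.Lib.Wiebe.Link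
open Groth.Agent.H25.Fitting

namespace Groth.Agent.H25.QuotLine.Alg

theorem opI_smul {Q : Type u} [CommRing Q] (c : Q) :
    ∀ {m : ℕ} (f : Fin m → Q) (w : V Q m), opI (c • f) w = c • opI f w
  | 0, _, _ => by simp [opI]
  | m + 1, f, w => by
      have ht : Fin.tail (c • f) = c • Fin.tail f := rfl
      refine ext_face ?_ ?_
      · simp only [map_smul, face_opI_false, ht, opI_smul c (Fin.tail f), Pi.smul_apply, smul_eq_mul,
          smul_add, mul_smul]
      · simp only [map_smul, face_opI_true, ht, opI_smul c (Fin.tail f), smul_neg]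

variable {R : Type u} [CommRing R] {n : ℕ} (f : Fin n → R) (j : Fin n)

/-- The homogeneous coordinates on the chart, with the `j`-th one equal to `1`. -/
noncomputable def coord (k : Fin n) : MvPolynomial {k : Fin n // k ≠ j} R :=
  if h : k = j then 1 else MvPolynomial.X ⟨k, h⟩

/-- The equations of the chart. -/
noncomputable def rels : Ideal (MvPolynomial {k : Fin n // k ≠ j} R) :=
  Ideal.span (Set.range fun k => MvPolynomial.C (f k) - coord j k * MvPolynomial.C (f j))

/-- The chart. -/
abbrev Chart : Type u := MvPolynomial {k : Fin n // k ≠ j} R ⧸ rels f j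

/-- The tautological coordinates. -/
noncomputable def tc (k : Fin n) : Chart f j := Ideal.Quotient.mk _ (coord j k)

theorem tc_self : tc f j j = 1 := by simp [tc, coord]

theorem algebraMap_eq (k : Fin n) :
    algebraMap R (Chart f j) (f k) = tc f j k * algebraMap R (Chart f j) (f j) := by
  show Ideal.Quotient.mk (rels f j) (MvPolynomial.C (f k)) =
    Ideal.Quotient.mk (rels f j) (coord j k) * Ideal.Quotient.mk (rels f j) (MvPolynomial.C (f j))
  rw [← map_mul]
  exact (Ideal.Quotient.mk_eq_mk_iff_sub_mem _ _).2 (Ideal.subset_span ⟨k, rfl⟩)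

/-- For a Koszul-regular sequence `f_j` is a nonzerodivisor on the `j`-th chart. -/
theorem mem_nonZeroDivisors (hf : LCI.IsKoszulRegularSeq R (List.ofFn f)) :
    algebraMap R (Chart f j) (f j) ∈ nonZeroDivisors (Chart f j) := by
  rw [mem_nonZeroDivisors_iff_right]
  intro y hy
  obtain ⟨a, rfl⟩ := Ideal.Quotient.mk_surjective y
  set F : Fin n → MvPolynomial {k : Fin n // k ≠ j} R := fun k => MvPolynomial.C (f k) with hFdef
  have hF : Acyc F := Groth.Agent.Lib.Wiebe.Bridge.acyc_flat f
    (Groth.Agent.Lib.Wiebe.Bridge.acyc_of_isKoszulRegularSeq f hf)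
  have hmem : a * MvPolynomial.C (f j) ∈ rels f j := by
    rw [← Ideal.Quotient.eq_zero_iff_mem, map_mul]
    exact hy
  obtain ⟨c, hc⟩ := Ideal.mem_span_range_iff_exists_fun.1 hmem
  set e := a + ∑ k, c k * coord j k with he
  have hsum : ∀ T : Fin n → MvPolynomial {k : Fin n // k ≠ j} R,
      ∑ k, (c - Pi.single j e : Fin n → MvPolynomial {k : Fin n // k ≠ j} R) k * T k = (∑ k, c k * T k) - e * T j := by
    intro T
    simp only [Pi.sub_apply, sub_mul, Finset.sum_sub_distrib]
    congr 1
    rw [Finset.sum_eq_single j (fun k _ hk => by rw [Pi.single_eq_of_ne hk, zero_mul]) (by simp),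
      Pi.single_eq_same]
  have key : ∀ T : Fin n → MvPolynomial {k : Fin n // k ≠ j} R,
      opI T (opE (c - Pi.single j e) (delta _ n)) = ((∑ k, c k * T k) - e * T j) • delta _ n := fun T => by
    have h := opI_opE T (c - Pi.single j e) (delta _ n)
    rw [opI_delta, map_zero, add_zero, hsum] at h
    exact h
  have hz : opI F (opE (c - Pi.single j e) (delta _ n)) = 0 := by
    rw [key, he, add_mul, show F j = MvPolynomial.C (f j) from rfl, ← hc, Finset.sum_mul,
      ← Finset.sum_add_distrib]
    rw [show ((∑ k, c k * F k) - ∑ k, (c k * (MvPolynomial.C (f k) - coord j k * MvPolynomial.C (f j))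
      + c k * coord j k * MvPolynomial.C (f j))) = 0 from sub_eq_zero.2
        (Finset.sum_congr rfl fun k _ => by rw [hFdef]; ring), zero_smul]
  obtain ⟨w, hw⟩ := hF _ hz (opE_apply_O _ _)
  set φ : MvPolynomial {k : Fin n // k ≠ j} R →+* Chart f j := Ideal.Quotient.mk _ with hφ
  have hφF : φ ∘ F = φ (MvPolynomial.C (f j)) • (φ ∘ coord j) := funext fun k => by
    rw [Pi.smul_apply, smul_eq_mul, mul_comm]
    exact algebraMap_eq f j k
  have h0 : φ ∘ opI (coord j) (opE (c - Pi.single j e) (delta _ n)) = 0 := by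
    rw [← hw, ← Groth.Agent.Lib.Wiebe.Bridge.opI_map, ← Groth.Agent.Lib.Wiebe.Bridge.opI_map, hφF,
      opI_smul, map_smul, opI_opI, smul_zero]
  have h1 := congrFun h0 (O n)
  rw [key, Function.comp_apply, Pi.smul_apply, smul_eq_mul, delta, if_pos rfl, mul_one,
    Pi.zero_apply, show coord j j = (1 : MvPolynomial {k : Fin n // k ≠ j} R) from dif_pos rfl, mul_one, he,
    sub_add_cancel_right, map_neg, neg_eq_zero] at h1
  exact h1

/-- The cokernel of `f`. -/
abbrev Coker : Type u := (Fin n → R) ⧸ Submodule.span R {f}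

/-- Its generators. -/
noncomputable def gen (k : Fin n) : Coker f := Submodule.Quotient.mk (Pi.single k 1)

theorem sum_gen (v : Fin n → R) : ∑ k, v k • gen f k = Submodule.Quotient.mk v := by
  conv_rhs => rw [pi_eq_sum_univ' v]
  rw [← Submodule.mkQ_apply, map_sum]
  simp [gen]

theorem span_gen : Submodule.span R (Set.range (gen f)) = ⊤ := by
  refine eq_top_iff.2 fun y _ => ?_
  obtain ⟨v, rfl⟩ := (Submodule.span R {f}).mkQ_surjective y
  exact (Submodule.mem_span_range_iff_exists_fun R).2 ⟨v, sum_gen f v⟩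

theorem rel_gen : rel (R := R) (gen f) = Submodule.span R {f} := by
  ext v
  rw [mem_rel, sum_gen, Submodule.Quotient.mk_eq_zero]

theorem fitt_pred (hn : 1 ≤ n) :
    Fitt.ideal R (Coker f) (n - 1) = Ideal.span (Set.range f) := by
  rw [ideal_eq_of_rel (gen f) (span_gen f) {f} (rel_gen f) (n - 1),
    show n - (n - 1) = 1 by omega]
  refine le_antisymm (Ideal.span_le.2 ?_) (Ideal.span_le.2 ?_)
  · rintro _ ⟨z, e, hz, rfl⟩
    rw [SetLike.mem_coe, Matrix.det_unique]
    exact Ideal.subset_span ⟨e default, by rw [Matrix.of_apply, show z default = f from hz default]⟩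
  · rintro _ ⟨k, rfl⟩
    have := minor_mem (S := ({f} : Set (Fin n → R))) (fun _ : Fin 1 => f) (fun _ => k) fun _ => rfl
    simpa [minor, Matrix.det_unique] using this

theorem fitt_lt {k : ℕ} (hk : k + 2 ≤ n) : Fitt.ideal R (Coker f) k = ⊥ := by
  rw [ideal_eq_of_rel (gen f) (span_gen f) {f} (rel_gen f) k, eq_bot_iff]
  refine Ideal.span_le.2 ?_
  rintro _ ⟨z, e, hz, rfl⟩
  rw [SetLike.mem_coe, Ideal.mem_bot]
  exact Matrix.det_zero_of_column_eq (i := (⟨0, by omega⟩ : Fin (n - k))) (j := ⟨1, by omega⟩)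
    (by simp) fun a => by
      rw [Matrix.of_apply, Matrix.of_apply, show z ⟨0, _⟩ = f from hz _, show z ⟨1, _⟩ = f from hz _]

end Groth.Agent.H25.QuotLine.Alg
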