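import Groth.Agent.H25.QuotLine.Alg
import Groth.Agent.H25.QuotBlow.Main
import Groth.Prelude.Def_BlowUp2
import Mathlib.RingTheory.Support
import Mathlib.RingTheory.LocalRing.Module
import Mathlib.LinearAlgebra.TensorProduct.Tower
import Mathlib.RingTheory.RingHom.Flat

/-!
The scheme of hyperplane quotients of the cokernel of a Koszul-regular sequence is the blow-up.
-/

set_option autoImplicit false
set_option linter.style.haveILetI false
universe u

open CategoryTheory CategoryTheory.Limits AlgebraicGeometry TensorProduct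
open Groth.Agent.Lib.Ideal Groth.Agent.H25.QuotBlow.Main
open Groth.Agent.H25.QuotLine.Alg

namespace Groth.Agent.H25.QuotLine.Scheme

variable {R : Type u} [CommRing R] {n : ℕ} {f : Fin n → R}

section Points

variable {A : Type u} [CommRing A] [Algebra R A]

variable (f) in
/-- The line with coordinates `t`. -/
noncomputable def line (t : Fin n → A) : A ⊗[R] Coker f := ∑ k, t k • ((1 : A) ⊗ₜ[R] gen f k)

theorem span_one_tmul : Submodule.span A (Set.range fun k => (1 : A) ⊗ₜ[R] gen f k) = ⊤ := by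
  refine eq_top_iff.2 fun z _ => ?_
  induction z using TensorProduct.induction_on with
  | zero => exact zero_mem _
  | add a b ha hb => exact add_mem (ha trivial) (hb trivial)
  | tmul a m =>
    obtain ⟨v, rfl⟩ := (Submodule.span R {f}).mkQ_surjective m
    rw [Submodule.mkQ_apply, ← sum_gen f v, tmul_sum]
    refine sum_mem fun k _ => ?_
    rw [tmul_smul, show a ⊗ₜ[R] gen f k = a • ((1 : A) ⊗ₜ[R] gen f k) by rw [smul_tmul', smul_eq_mul, mul_one],
      ← algebraMap_smul A (v k), smul_smul]
    exact Submodule.smul_mem _ _ (Submodule.subset_span ⟨k, rfl⟩)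

variable {N : Module.Grassmannian A (A ⊗[R] Coker f) (n - 1)} {j : Fin n} {t : Fin n → A}

/-- If a quotient kills a line with `j`-th coordinate `1`, the other generators form a basis of it. -/
theorem bijective_of_line_mem (hj : t j = 1) (ht : line f t ∈ N.toSubmodule) :
    Function.Bijective (Fintype.linearCombination A fun k : {k : Fin n // k ≠ j} =>
      (Submodule.Quotient.mk ((1 : A) ⊗ₜ[R] gen f k.1) : (A ⊗[R] Coker f) ⧸ N.toSubmodule)) := by
  classical
  set χ := Fintype.linearCombination A fun k : {k : Fin n // k ≠ j} =>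
      (Submodule.Quotient.mk ((1 : A) ⊗ₜ[R] gen f k.1) : (A ⊗[R] Coker f) ⧸ N.toSubmodule) with hχ
  have hmem : ∀ k, N.toSubmodule.mkQ ((1 : A) ⊗ₜ[R] gen f k) ∈ LinearMap.range χ := by
    have hk : ∀ k, k ≠ j → N.toSubmodule.mkQ ((1 : A) ⊗ₜ[R] gen f k) ∈ LinearMap.range χ :=
      fun k hk => ⟨Pi.single ⟨k, hk⟩ 1, by simp [hχ, Fintype.linearCombination_apply_single]⟩
    intro k
    by_cases h : k = j
    · subst h
      have h0 : N.toSubmodule.mkQ (line f t) = 0 := (Submodule.Quotient.mk_eq_zero _).2 ht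
      rw [line, ← Finset.add_sum_erase _ _ (Finset.mem_univ k), hj, one_smul, map_add, map_sum,
        add_eq_zero_iff_eq_neg] at h0
      rw [h0]
      refine neg_mem (sum_mem fun i hi => ?_)
      rw [map_smul]
      exact Submodule.smul_mem _ _ (hk i (Finset.ne_of_mem_erase hi))
    · exact hk k h
  have hsurj : Function.Surjective χ := by
    rw [← LinearMap.range_eq_top, eq_top_iff]
    intro y _
    obtain ⟨y, rfl⟩ := N.toSubmodule.mkQ_surjective y
    have : y ∈ Submodule.span A (Set.range fun k => (1 : A) ⊗ₜ[R] gen f k) := span_one_tmul.ge trivial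
    refine Submodule.span_induction (p := fun y _ => N.toSubmodule.mkQ y ∈ LinearMap.range χ)
      (by rintro _ ⟨k, rfl⟩; exact hmem k) (by rw [map_zero]; exact zero_mem _)
      (fun a b _ _ ha hb => by rw [map_add]; exact add_mem ha hb)
      (fun a b _ hb => by rw [map_smul]; exact Submodule.smul_mem _ _ hb) this
  refine ⟨QuotBlow.Quot.injective_of_surjective χ hsurj fun p => ?_, hsurj⟩
  haveI : Nontrivial A := PrimeSpectrum.nonempty_iff_nontrivial.1 ⟨p⟩
  rw [N.rankAtStalk_eq p, Module.rankAtStalk_eq_finrank_of_free, Pi.natCast_apply, Nat.cast_id,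
    Module.finrank_pi, Fintype.card_subtype_compl, Fintype.card_fin, Fintype.card_subtype_eq]

theorem eq_span (hj : t j = 1) (ht : line f t ∈ N.toSubmodule) :
    N.toSubmodule = Submodule.span A {(line f t : A ⊗[R] Coker f)} := by
  classical
  refine le_antisymm (fun z hz => ?_) (Submodule.span_le.2 (by simpa using ht))
  have hz' : z ∈ Submodule.span A (Set.range fun k => (1 : A) ⊗ₜ[R] gen f k) := by
    rw [span_one_tmul]; trivial
  obtain ⟨a, ha⟩ := (Submodule.mem_span_range_iff_exists_fun A).1 hz'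
  have h0 : Fintype.linearCombination A (fun k : {k : Fin n // k ≠ j} =>
      (Submodule.Quotient.mk ((1 : A) ⊗ₜ[R] gen f k.1) : (A ⊗[R] Coker f) ⧸ N.toSubmodule))
        (fun k => a k.1 - a j * t k.1) = 0 := by
    have h1 : N.toSubmodule.mkQ (z - a j • line f t) = 0 :=
      (Submodule.Quotient.mk_eq_zero _).2 (sub_mem hz (Submodule.smul_mem _ _ ht))
    rw [← ha, line, Finset.smul_sum, ← Finset.sum_sub_distrib, map_sum,
      ← Finset.add_sum_erase _ _ (Finset.mem_univ j), hj, one_smul, sub_self, map_zero, zero_add] at h1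
    rw [Fintype.linearCombination_apply, ← Finset.sum_subtype (Finset.univ.erase j) (by simp)
      (fun k => (a k - a j * t k) • (Submodule.Quotient.mk ((1 : A) ⊗ₜ[R] gen f k) :
        (A ⊗[R] Coker f) ⧸ N.toSubmodule))]
    refine Eq.trans (Finset.sum_congr rfl fun k _ => ?_) h1
    rw [smul_smul, map_sub, map_smul, map_smul, ← sub_smul]
    rfl
  have h2 := (bijective_of_line_mem hj ht).1 (h0.trans (map_zero _).symm)
  refine Submodule.mem_span_singleton.2 ⟨a j, ?_⟩
  rw [← ha, line, Finset.smul_sum]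
  refine Finset.sum_congr rfl fun k _ => ?_
  rw [smul_smul]
  congr 1
  by_cases h : k = j
  · rw [h, hj, mul_one]
  · exact (sub_eq_zero.1 (congrFun h2 ⟨k, h⟩)).symm

theorem coord_unique (hj : t j = 1) (ht : line f t ∈ N.toSubmodule) {t' : Fin n → A} (hj' : t' j = 1)
    (ht' : line f t' ∈ N.toSubmodule) : t = t' := by
  classical
  have h0 : Fintype.linearCombination A (fun k : {k : Fin n // k ≠ j} =>
      (Submodule.Quotient.mk ((1 : A) ⊗ₜ[R] gen f k.1) : (A ⊗[R] Coker f) ⧸ N.toSubmodule))
        (fun k => t k.1 - t' k.1) = 0 := by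
    have h1 : N.toSubmodule.mkQ (line f t - line f t') = 0 :=
      (Submodule.Quotient.mk_eq_zero _).2 (sub_mem ht ht')
    rw [line, line, ← Finset.sum_sub_distrib, map_sum,
      ← Finset.add_sum_erase _ _ (Finset.mem_univ j), hj, hj', sub_self, map_zero, zero_add] at h1
    rw [Fintype.linearCombination_apply, ← Finset.sum_subtype (Finset.univ.erase j) (by simp)
      (fun k => (t k - t' k) • (Submodule.Quotient.mk ((1 : A) ⊗ₜ[R] gen f k) :
        (A ⊗[R] Coker f) ⧸ N.toSubmodule))]
    refine Eq.trans (Finset.sum_congr rfl fun k _ => ?_) h1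
    rw [map_sub, map_smul, map_smul, ← sub_smul]
    rfl
  have h2 := (bijective_of_line_mem hj ht).1 (h0.trans (map_zero _).symm)
  funext k
  by_cases h : k = j
  · rw [h, hj, hj']
  · exact sub_eq_zero.1 (congrFun h2 ⟨k, h⟩)

theorem algebraMap_eq_of_line_mem (hj : t j = 1) (ht : line f t ∈ N.toSubmodule) (k : Fin n) :
    algebraMap R A (f k) = t k * algebraMap R A (f j) := by
  classical
  have h0 : line f (fun k => algebraMap R A (f k)) = 0 := by
    rw [line]
    simp only [algebraMap_smul, ← tmul_smul, ← tmul_sum]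
    rw [sum_gen, show (Submodule.Quotient.mk f : Coker f) = 0 from
      (Submodule.Quotient.mk_eq_zero _).2 (Submodule.subset_span rfl), tmul_zero]
  let t' : Fin n → A := fun k => t k + (algebraMap R A (f k) - t k * algebraMap R A (f j))
  have e : line f t' = line f t + line f (fun k => algebraMap R A (f k)) -
      algebraMap R A (f j) • line f t := by
    simp only [line, t', Finset.smul_sum, ← Finset.sum_add_distrib, ← Finset.sum_sub_distrib, smul_smul,
      ← add_smul, ← sub_smul]
    exact Finset.sum_congr rfl fun k _ => by congr 1; ring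
  have h := congrFun (coord_unique (t' := t') hj ht (by simp [t', hj]) (by
    rw [e, h0, add_zero]
    exact sub_mem ht (Submodule.smul_mem _ _ ht))) k
  simp only [t'] at h
  exact sub_eq_zero.1 (add_eq_left.1 h.symm)

theorem line_mem_map {B : Type u} [CommRing B] [Algebra R B] (φ : A →ₐ[R] B)
    (ht : line f t ∈ N.toSubmodule) :
    line f (φ ∘ t) ∈ (Module.Grassmannian.map φ N).toSubmodule := by
  letI : Algebra A B := φ.toAlgebra
  letI : IsScalarTower R A B := IsScalarTower.of_algebraMap_eq' <| IsScalarTower.algebraMap_eq R A B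
  rw [Module.Grassmannian.map_toSubmodule, LinearMap.mem_ker, line, map_sum]
  have h0 : N.toSubmodule.mkQ (line f t) = 0 := (Submodule.Quotient.mk_eq_zero _).2 ht
  refine Eq.trans ?_ ((congrArg (fun y => (1 : B) ⊗ₜ[A] y) h0).trans (tmul_zero _ _))
  rw [line, map_sum, tmul_sum]
  refine Finset.sum_congr rfl fun k _ => ?_
  rw [map_smul, map_smul, tmul_smul, Function.comp_apply, ← algebraMap_smul B (t k)]
  simp [Module.Grassmannian.baseChangeMkQ]
  rfl

theorem exists_chartHom (hj : t j = 1)
    (h : ∀ k, algebraMap R A (f k) = t k * algebraMap R A (f j)) :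
    ∃ φ : Chart f j →ₐ[R] A, φ ∘ tc f j = t := by
  have hker : ∀ a ∈ rels f j, MvPolynomial.aeval (fun i : {i // i ≠ j} => t i.1) a = 0 := by
    intro a ha
    refine (Ideal.span_le (I := RingHom.ker (MvPolynomial.aeval fun i : {i // i ≠ j} => t i.1).toRingHom)).2 ?_ ha
    rintro _ ⟨k, rfl⟩
    show MvPolynomial.aeval (fun i : {i // i ≠ j} => t i.1) _ = 0
    rw [map_sub, map_mul, MvPolynomial.aeval_C, MvPolynomial.aeval_C]
    unfold coord
    split
    · next hk => rw [hk, map_one, one_mul, sub_self]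
    · rw [MvPolynomial.aeval_X, sub_eq_zero]
      exact h k
  refine ⟨Ideal.Quotient.liftₐ (rels f j) (MvPolynomial.aeval fun i => t i.1) hker, funext fun k => ?_⟩
  show MvPolynomial.aeval (fun i : {i // i ≠ j} => t i.1) (coord j k) = t k
  unfold coord
  split
  · next hk => rw [hk, map_one, hj]
  · rw [MvPolynomial.aeval_X]

end Points

theorem eq_of_comp_eq {P Z : Scheme.{u}} {C : CommRingCat.{u}} (h : Spec C ⟶ Z)
    (huniq : ∀ {B : Type u} [CommRing B] (a b : C ⟶ CommRingCat.of B),
      Spec.map a ≫ h = Spec.map b ≫ h → a = b)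
    (u v : P ⟶ Spec C) (huv : u ≫ h = v ≫ h) : u = v := by
  refine Scheme.Cover.hom_ext (P.openCoverOfIsOpenCover _ (iSup_affineOpens_eq_top P)) _ _ fun U => ?_
  show U.1.ι ≫ u = U.1.ι ≫ v
  rw [← cancel_epi U.2.isoSpec.inv, ← Category.assoc, ← Category.assoc, U.2.isoSpec_inv_ι]
  obtain ⟨a, ha⟩ := Spec.map_surjective (U.2.fromSpec ≫ u)
  obtain ⟨b, hb⟩ := Spec.map_surjective (U.2.fromSpec ≫ v)
  rw [← ha, ← hb, huniq a b (by rw [ha, hb, Category.assoc, Category.assoc, huv])]

section Universal

variable (f) in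
/-- The tautological quotient on a chart. -/
theorem exists_chart_point (j : Fin n) :
    ∃ N : Module.Grassmannian (Chart f j) (Chart f j ⊗[R] Coker f) (n - 1),
      line f (tc f j) ∈ N.toSubmodule := by
  classical
  let C := Chart f j
  let K := {k : Fin n // k ≠ j}
  let L₀ : (Fin n → R) →ₗ[R] (K → C) :=
    Fintype.linearCombination R fun k : Fin n =>
      fun i : K => (if k = i.1 then (1 : C) else 0) - (if k = j then tc f j i.1 else 0)
  have hL₀ : ∀ v : Fin n → R, ∀ i : K,
      L₀ v i = algebraMap R C (v i.1) - tc f j i.1 * algebraMap R C (v j) := fun v i => by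
    simp only [L₀, Fintype.linearCombination_apply, Finset.sum_apply, Pi.smul_apply, smul_sub,
      Finset.sum_sub_distrib, smul_ite, smul_zero, Finset.sum_ite_eq', Finset.mem_univ, if_true]
    rw [← Algebra.algebraMap_eq_smul_one,
      show v j • tc f j i.1 = algebraMap R C (v j) * tc f j i.1 from (Algebra.smul_def (v j) (tc f j i.1) :)]
    ring
  let L₁ : Coker f →ₗ[R] (K → C) := (Submodule.span R {f}).liftQ L₀ <| Submodule.span_le.2 <| by
    rintro _ rfl
    exact funext fun i => by rw [hL₀, Alg.algebraMap_eq]; exact sub_self _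
  let π : C ⊗[R] Coker f →ₗ[C] (K → C) :=
    (TensorProduct.isBaseChange R (Coker f) C).lift L₁
  have hπ : ∀ k, π ((1 : C) ⊗ₜ[R] gen f k) = L₀ (Pi.single k 1) := fun k =>
    (TensorProduct.isBaseChange R (Coker f) C).lift_eq L₁ (gen f k)
  have hline : ∀ a : Fin n → C, ∀ i : K, π (line f a) i = a i.1 - tc f j i.1 * a j := by
    intro a i
    simp only [line, map_sum, map_smul, hπ, Finset.sum_apply, Pi.smul_apply, smul_eq_mul, hL₀,
      Pi.single_apply, apply_ite (algebraMap R C), map_one, map_zero]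
    simp [mul_sub, Finset.sum_sub_distrib]
    ring
  have hsurj : Function.Surjective π := fun y => by
    refine ⟨line f (fun k => if h : k = j then 0 else y ⟨k, h⟩), funext fun i => ?_⟩
    rw [hline]
    simp [i.2]
  let e := π.quotKerEquivOfSurjective hsurj
  refine ⟨⟨LinearMap.ker π, Module.Finite.equiv e.symm, Module.Projective.of_equiv e.symm, fun p => ?_⟩,
    LinearMap.mem_ker.2 (funext fun i => by rw [hline, tc_self, mul_one]; exact sub_self _)⟩
  haveI : Nontrivial C := PrimeSpectrum.nonempty_iff_nontrivial.1 ⟨p⟩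
  rw [Module.rankAtStalk_eq_of_equiv e, Module.rankAtStalk_eq_finrank_of_free, Pi.natCast_apply,
    Nat.cast_id, Module.finrank_pi, Fintype.card_subtype_compl, Fintype.card_fin,
    Fintype.card_subtype_eq]

variable {Q : Over (Spec (CommRingCat.of R))}
  (e : ∀ A : CommAlgCat.{u} R, (Over.mk (Spec.map (CommRingCat.ofHom (algebraMap R A))) ⟶ Q) ≃
    (Module.Grassmannian.functor (R := R) (M := Coker f) (n - 1)).obj A)
  (he : ∀ (A A' : CommAlgCat.{u} R) (φ : A ⟶ A')
    (g : Over.mk (Spec.map (CommRingCat.ofHom (algebraMap R A))) ⟶ Q)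
    (g' : Over.mk (Spec.map (CommRingCat.ofHom (algebraMap R A'))) ⟶ Q),
    g'.left = Spec.map (CommRingCat.ofHom φ.hom.toRingHom) ≫ g.left →
      e A' g' = (Module.Grassmannian.functor (R := R) (M := Coker f) (n - 1)).map φ (e A g))

include he in
theorem natural {A B : Type u} [CommRing A] [Algebra R A] [CommRing B] [Algebra R B] (φ : A →ₐ[R] B)
    (g : Over.mk (Spec.map (CommRingCat.ofHom (algebraMap R A))) ⟶ Q)
    (g' : Over.mk (Spec.map (CommRingCat.ofHom (algebraMap R B))) ⟶ Q)
    (h : g'.left = Spec.map (CommRingCat.ofHom φ.toRingHom) ≫ g.left) :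
    e (CommAlgCat.of R B) g' = Module.Grassmannian.map φ (e (CommAlgCat.of R A) g) :=
  he (CommAlgCat.of R A) (CommAlgCat.of R B) (CommAlgCat.ofHom φ) g g' h

set_option maxHeartbeats 1000000 in
include he in
/-- The inverse image of the ideal is effective Cartier. -/
theorem isEffCartier (hf : LCI.IsKoszulRegularSeq R (List.ofFn f)) (hn : 1 ≤ n) :
    BlowUp.IsEffCartierIdeal
      ((Spec.map (CommRingCat.ofHom (Ideal.Quotient.mk (Ideal.span (Set.range f))))).ker.comap Q.hom) := by
  classical
  intro x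
  obtain ⟨D, hD, hxD, -⟩ := exists_isAffineOpen_mem_and_subset (show x ∈ (⊤ : Q.left.Opens) from trivial)
  letI := (homU Q.hom D).toAlgebra
  let g₀ : Over.mk (Spec.map (CommRingCat.ofHom (algebraMap R Γ(Q.left, D)))) ⟶ Q :=
    Over.homMk hD.fromSpec (specMap_homU Q.hom ⟨D, hD⟩).symm
  let N : Module.Grassmannian Γ(Q.left, D) (Γ(Q.left, D) ⊗[R] Coker f) (n - 1) :=
    e (CommAlgCat.of R Γ(Q.left, D)) g₀
  let p := (hD.primeIdealOf ⟨x, hxD⟩).asIdeal
  let v : Fin n → p.Fiber ((Γ(Q.left, D) ⊗[R] Coker f) ⧸ N.toSubmodule) := fun k =>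
    (1 : p.ResidueField) ⊗ₜ N.toSubmodule.mkQ ((1 : Γ(Q.left, D)) ⊗ₜ[R] gen f k)
  obtain ⟨j, hj⟩ : ∃ j, v j ∈ Submodule.span p.ResidueField (v '' (Set.univ \ {j})) := by
    by_contra hall
    push Not at hall
    have hli : LinearIndependent p.ResidueField v :=
      linearIndependent_iff_notMem_span.2 hall
    have h1 := hli.fintype_card_le_finrank
    rw [Ideal.finrank_fiber_eq_rankAtStalk, N.rankAtStalk_eq, Fintype.card_fin] at h1
    omega
  let W := Submodule.span Γ(Q.left, D)
    ((fun k => N.toSubmodule.mkQ ((1 : Γ(Q.left, D)) ⊗ₜ[R] gen f k)) '' (Set.univ \ {j}))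
  have hsupp : (⟨p, inferInstance⟩ : PrimeSpectrum Γ(Q.left, D)) ∉
      Module.support Γ(Q.left, D) (((Γ(Q.left, D) ⊗[R] Coker f) ⧸ N.toSubmodule) ⧸ W) := by
    rw [Module.mem_support_iff_nontrivial_residueField_tensorProduct, not_nontrivial_iff_subsingleton]
    let q : p.Fiber ((Γ(Q.left, D) ⊗[R] Coker f) ⧸ N.toSubmodule) →ₗ[p.ResidueField]
        p.Fiber (((Γ(Q.left, D) ⊗[R] Coker f) ⧸ N.toSubmodule) ⧸ W) := W.mkQ.baseChange p.ResidueField
    have hq : Function.Surjective q := LinearMap.baseChange_surjective _ W.mkQ_surjective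
    have h0 : ∀ k, k ≠ j → q (v k) = 0 := fun k hk => by
      show (1 : p.ResidueField) ⊗ₜ W.mkQ _ = 0
      rw [Submodule.mkQ_apply W, (Submodule.Quotient.mk_eq_zero W).2
        (Submodule.subset_span ⟨k, ⟨trivial, hk⟩, rfl⟩), tmul_zero]
    have hvk : ∀ k, q (v k) = 0 := fun k => by
      by_cases hk : k = j
      · subst hk
        refine Submodule.span_induction (p := fun y _ => q y = 0) ?_ (map_zero q)
          (fun a b _ _ ha hb => by rw [map_add, ha, hb, add_zero])
          (fun a b _ hb => by rw [map_smul, hb, smul_zero]) hj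
        rintro _ ⟨i, hi, rfl⟩
        exact h0 i hi.2
      · exact h0 k hk
    refine subsingleton_of_forall_eq 0 fun y => ?_
    obtain ⟨y, rfl⟩ := hq y
    induction y using TensorProduct.induction_on with
    | zero => exact map_zero q
    | add a b ha hb => rw [map_add, ha, hb, add_zero]
    | tmul a m =>
      obtain ⟨m, rfl⟩ := N.toSubmodule.mkQ_surjective m
      have hm : m ∈ Submodule.span Γ(Q.left, D)
          (Set.range fun k => (1 : Γ(Q.left, D)) ⊗ₜ[R] gen f k) := by
        rw [span_one_tmul]; trivial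
      obtain ⟨α, rfl⟩ := (Submodule.mem_span_range_iff_exists_fun Γ(Q.left, D)).1 hm
      rw [map_sum, tmul_sum, map_sum]
      refine Finset.sum_eq_zero fun k _ => ?_
      have h := congrArg (fun z => (α k • a) • z) (hvk k)
      simp only [smul_zero, ← map_smul, v] at h
      rw [smul_tmul', smul_eq_mul, mul_one] at h
      rw [map_smul, ← smul_tmul]
      exact h
  obtain ⟨c, hc, hcW⟩ := Module.notMem_support_iff'.1 hsupp
    (W.mkQ (N.toSubmodule.mkQ ((1 : Γ(Q.left, D)) ⊗ₜ[R] gen f j)))
  rw [← map_smul, ← map_smul, Submodule.mkQ_apply W, Submodule.Quotient.mk_eq_zero] at hcW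
  simp only [W] at hcW
  have hset : (Set.univ \ {j} : Set (Fin n)) = ↑(Finset.univ \ {j} : Finset (Fin n)) := by simp
  rw [hset, Submodule.mem_span_image_finset_iff_exists_fun] at hcW
  obtain ⟨b, hb⟩ := hcW
  let b' : Fin n → Γ(Q.left, D) := fun k => if h : k ∈ Finset.univ \ {j} then -b ⟨k, h⟩ else c
  have hb' : line f b' ∈ N.toSubmodule := by
    rw [← Submodule.Quotient.mk_eq_zero, ← Submodule.mkQ_apply, line, map_sum,
      ← Finset.sum_sdiff (Finset.subset_univ {j}), Finset.sum_singleton,
      show b' j = c from dif_neg (by simp), ← hb, ← Finset.sum_coe_sort (Finset.univ \ {j}),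
      ← Finset.sum_add_distrib]
    refine Finset.sum_eq_zero fun k _ => ?_
    rw [map_smul, show b' k.1 = -b k from dif_pos k.2, neg_smul, neg_add_cancel]
  -- pass to `D(c)`
  let D' : Q.left.affineOpens := ⟨Q.left.basicOpen c, hD.basicOpen c⟩
  have hxD' : x ∈ D'.1 := (EffCartier.mem_basicOpen_iff_notMem_prime hD hxD c).2 hc
  have hle : D'.1 ≤ D := Q.left.basicOpen_le c
  letI := (homU Q.hom D'.1).toAlgebra
  have hcomm : (Q.left.presheaf.map (homOfLE hle).op).hom.comp (homU Q.hom D) = homU Q.hom D'.1 := by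
    rw [homU, homU, ← RingHom.comp_assoc]
    congr 1
    exact congrArg CommRingCat.Hom.hom (Scheme.Hom.appLE_map Q.hom le_top (homOfLE hle).op)
  let res : Γ(Q.left, D) →ₐ[R] Γ(Q.left, D'.1) :=
    { (Q.left.presheaf.map (homOfLE hle).op).hom with commutes' := fun r => RingHom.congr_fun hcomm r }
  let g₁ : Over.mk (Spec.map (CommRingCat.ofHom (algebraMap R Γ(Q.left, D'.1)))) ⟶ Q :=
    Over.homMk D'.2.fromSpec (specMap_homU Q.hom D').symm
  have hN₁ : e (CommAlgCat.of R Γ(Q.left, D'.1)) g₁ = Module.Grassmannian.map res N :=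
    natural e he res g₀ g₁ (IsAffineOpen.map_fromSpec hD D'.2 (homOfLE hle).op).symm
  haveI : IsLocalization.Away c Γ(Q.left, D'.1) := hD.isLocalization_basicOpen c
  obtain ⟨w, hw⟩ : IsUnit (res c) := IsLocalization.Away.algebraMap_isUnit c
  let t : Fin n → Γ(Q.left, D'.1) := fun k => (↑w⁻¹ : Γ(Q.left, D'.1)) * res (b' k)
  have htj : t j = 1 := by
    simp only [t, show b' j = c from dif_neg (by simp), ← hw, Units.inv_mul]
  have htN : line f t ∈ (e (CommAlgCat.of R Γ(Q.left, D'.1)) g₁).toSubmodule := by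
    rw [hN₁, show line f t = (↑w⁻¹ : Γ(Q.left, D'.1)) • line f (res ∘ b') by
      simp only [t, line, Finset.smul_sum, smul_smul, Function.comp_apply]]
    exact Submodule.smul_mem _ _ (line_mem_map res hb')
  -- the chart
  obtain ⟨φ, hφ⟩ := exists_chartHom htj (algebraMap_eq_of_line_mem htj htN)
  obtain ⟨Nj, hNj⟩ := exists_chart_point f j
  let gj := (e (CommAlgCat.of R (Chart f j))).symm Nj
  have hgj : e (CommAlgCat.of R (Chart f j)) gj = Nj := Equiv.apply_symm_apply _ _
  let g₂ : Over.mk (Spec.map (CommRingCat.ofHom (algebraMap R Γ(Q.left, D'.1)))) ⟶ Q :=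
    Over.homMk (Spec.map (CommRingCat.ofHom φ.toRingHom) ≫ gj.left) (by
      show (_ ≫ gj.left) ≫ Q.hom = _
      rw [Category.assoc, show gj.left ≫ Q.hom = _ from Over.w gj]
      show _ = Spec.map _
      rw [← φ.comp_algebraMap, CommRingCat.ofHom_comp, Spec.map_comp]
      rfl)
  have hfac : Spec.map (CommRingCat.ofHom φ.toRingHom) ≫ gj.left = D'.2.fromSpec := by
    refine congrArg CommaMorphism.left (show g₂ = g₁ from
      (e (CommAlgCat.of R Γ(Q.left, D'.1))).injective (Module.Grassmannian.ext ?_))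
    rw [natural e he φ gj g₂ rfl, hgj,
      eq_span htj (hφ ▸ line_mem_map φ hNj), eq_span htj htN]
  -- the chart map is a monomorphism over the scheme
  have huniq : ∀ {C : Type u} [CommRing C] (a b : CommRingCat.of (Chart f j) ⟶ CommRingCat.of C),
      Spec.map a ≫ gj.left = Spec.map b ≫ gj.left → a = b := by
    intro C _ a b hab
    letI : Algebra R C := (a.hom.comp (algebraMap R (Chart f j))).toAlgebra
    let αa : Chart f j →ₐ[R] C := { a.hom with commutes' := fun r => rfl }
    have hbR : b.hom.comp (algebraMap R (Chart f j)) = a.hom.comp (algebraMap R (Chart f j)) := by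
      have h := congrArg (· ≫ Q.hom) hab
      simp only [Category.assoc, show gj.left ≫ Q.hom = _ from Over.w gj] at h
      have h' : Spec.map (CommRingCat.ofHom (algebraMap R (Chart f j)) ≫ a) =
          Spec.map (CommRingCat.ofHom (algebraMap R (Chart f j)) ≫ b) := by
        rw [Spec.map_comp, Spec.map_comp]; exact h
      exact (congrArg CommRingCat.Hom.hom (Spec.map_injective h')).symm
    let αb : Chart f j →ₐ[R] C := { b.hom with commutes' := fun r => RingHom.congr_fun hbR r }
    let ga : Over.mk (Spec.map (CommRingCat.ofHom (algebraMap R C))) ⟶ Q :=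
      Over.homMk (Spec.map a ≫ gj.left) (by
        show (_ ≫ gj.left) ≫ Q.hom = _
        rw [Category.assoc, show gj.left ≫ Q.hom = _ from Over.w gj]
        show Spec.map a ≫ Spec.map _ = Spec.map _
        rw [← Spec.map_comp]
        rfl)
    have ha := natural e he αa gj ga rfl
    have hb := natural e he αb gj ga hab
    rw [hgj] at ha hb
    have hco : αa ∘ tc f j = αb ∘ tc f j := coord_unique (j := j)
      (by simp [tc_self]) (ha ▸ line_mem_map αa hNj) (by simp [tc_self]) (hb ▸ line_mem_map αb hNj)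
    have hαβ : αa = αb := by
      refine Ideal.Quotient.algHom_ext R (MvPolynomial.algHom_ext fun k => ?_)
      have h1 := congrFun hco k.1
      simp only [Function.comp_apply, tc, coord, dif_neg k.2] at h1
      exact h1
    exact CommRingCat.hom_ext (congrArg AlgHom.toRingHom hαβ)
  -- so the chart map is an open immersion
  let sec := pullback.lift (f := gj.left) (g := D'.2.fromSpec)
    (Spec.map (CommRingCat.ofHom φ.toRingHom)) (𝟙 _) (hfac.trans (Category.id_comp _).symm)
  have hsec : pullback.snd gj.left D'.2.fromSpec ≫ sec = 𝟙 _ := by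
    refine pullback.hom_ext ?_ 
      (by rw [Category.assoc, pullback.lift_snd]; exact (Category.comp_id _).trans (Category.id_comp _).symm)
    rw [Category.assoc, pullback.lift_fst, Category.id_comp]
    refine eq_of_comp_eq gj.left (fun a b => huniq a b) _ _ ?_
    rw [Category.assoc, hfac, pullback.condition]
  haveI : IsIso sec := ⟨⟨pullback.snd gj.left D'.2.fromSpec, pullback.lift_snd _ _ _, hsec⟩⟩
  haveI := D'.2.isOpenImmersion_fromSpec
  haveI hfst : IsOpenImmersion (pullback.fst gj.left D'.2.fromSpec) :=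
    MorphismProperty.pullback_fst _ _ ‹IsOpenImmersion D'.2.fromSpec›
  haveI : IsOpenImmersion (Spec.map (CommRingCat.ofHom φ.toRingHom)) := by
    rw [show Spec.map (CommRingCat.ofHom φ.toRingHom) = sec ≫ pullback.fst gj.left D'.2.fromSpec from
      (pullback.lift_fst _ _ _).symm]
    exact MorphismProperty.comp_mem @IsOpenImmersion _ _ inferInstance hfst
  have hflat : φ.toRingHom.Flat :=
    (HasRingHomProperty.Spec_iff (P := @Flat) (φ := CommRingCat.ofHom φ.toRingHom)).1 inferInstance
  refine ⟨D', hxD', algebraMap R Γ(Q.left, D'.1) (f j), ?_, ?_⟩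
  · rw [← φ.commutes]
    exact EffCartier.mem_nonZeroDivisors_of_flat hflat (Alg.mem_nonZeroDivisors f j hf)
  · rw [ideal_comap_ker]
    refine le_antisymm ?_ ((Ideal.span_singleton_le_iff_mem _).2
      (Ideal.mem_map_of_mem _ (Ideal.subset_span ⟨j, rfl⟩)))
    rw [Ideal.map_span, Ideal.span_le]
    rintro _ ⟨_, ⟨k, rfl⟩, rfl⟩
    rw [SetLike.mem_coe, Ideal.mem_span_singleton']
    exact ⟨t k, (algebraMap_eq_of_line_mem htj htN k).symm⟩

include e in
/-- Over an affine on which the ideal is principal and regular, there is exactly one lift. -/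
theorem existsUnique_affine (hn : 1 ≤ n) (A : Type u) [CommRing A] [Algebra R A] {β : A}
    (hβ : β ∈ nonZeroDivisors A)
    (hI : (Ideal.span (Set.range f)).map (algebraMap R A) = Ideal.span {β}) :
    ∃! h : Spec (CommRingCat.of A) ⟶ Q.left,
      h ≫ Q.hom = Spec.map (CommRingCat.ofHom (algebraMap R A)) := by
  obtain ⟨u⟩ := QuotBlow.Quot.nonempty_unique (M := A ⊗[R] Coker f) (k := n - 1) (f := β)
    ⟨hβ, by rw [Fitting.ideal_baseChange, fitt_pred f hn, hI],
      fun i hi => by rw [Fitting.ideal_baseChange, fitt_lt f (by omega), Ideal.map_bot]⟩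
  let A' : CommAlgCat.{u} R := CommAlgCat.of R A
  let g₀ := (e A').symm u.default
  refine ⟨g₀.left, Over.w g₀, fun h hh => ?_⟩
  have e1 : (Over.homMk (U := Over.mk (Spec.map (CommRingCat.ofHom (algebraMap R A')))) (V := Q)
      h hh) = g₀ := (e A').injective ((u.uniq _).trans (u.uniq _).symm)
  exact congrArg CommaMorphism.left e1

variable (f) in
/-- The inverse image of the ideal is effective Cartier. -/
def Good {T : Scheme.{u}} (g : T ⟶ Spec (CommRingCat.of R)) : Prop :=
  BlowUp.IsEffCartierIdeal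
    ((Spec.map (CommRingCat.ofHom (Ideal.Quotient.mk (Ideal.span (Set.range f))))).ker.comap g)

include e in
theorem existsUnique_chart (hn : 1 ≤ n) {T : Scheme.{u}}
    (g : T ⟶ Spec (CommRingCat.of R)) (U : T.affineOpens) {β : Γ(T, U.1)}
    (hβ : β ∈ nonZeroDivisors Γ(T, U.1))
    (h : ((Spec.map (CommRingCat.ofHom (Ideal.Quotient.mk (Ideal.span (Set.range f))))).ker.comap g).ideal U
      = Ideal.span {β}) :
    ∃! h : Spec Γ(T, U.1) ⟶ Q.left, h ≫ Q.hom = U.2.fromSpec ≫ g := by
  letI := (homU g U.1).toAlgebra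
  rw [ideal_comap_ker] at h
  rw [← specMap_homU g U]
  exact existsUnique_affine e hn Γ(T, U.1) hβ h

include e in
/-- Lifts are unique. -/
theorem hom_unique (hn : 1 ≤ n) {T : Scheme.{u}} {g : T ⟶ Spec (CommRingCat.of R)}
    (hg : Good f g) {h h' : T ⟶ Q.left} (hh : h ≫ Q.hom = g)
    (hh' : h' ≫ Q.hom = g) : h = h' := by
  choose U hxU β hβ hU using hg
  have hcov : TopologicalSpace.IsOpenCover (fun x : T => (U x).1) :=
    eq_top_iff.2 fun x _ => TopologicalSpace.Opens.mem_iSup.2 ⟨x, hxU x⟩
  refine Scheme.Cover.hom_ext (T.openCoverOfIsOpenCover _ hcov) _ _ fun x => ?_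
  obtain ⟨k, -, hk⟩ := existsUnique_chart e hn g (U x) (hβ x) (hU x)
  have e : (U x).2.fromSpec ≫ h = (U x).2.fromSpec ≫ h' :=
    (hk _ ((Category.assoc _ _ _).trans (congrArg _ hh))).trans
      (hk _ ((Category.assoc _ _ _).trans (congrArg _ hh'))).symm
  show (U x).1.ι ≫ h = (U x).1.ι ≫ h'
  rw [← (U x).2.isoSpec_inv_ι, Category.assoc, Category.assoc] at e
  exact (cancel_epi (U x).2.isoSpec.inv).1 e

theorem Good.comp {T T' : Scheme.{u}} (j : T' ⟶ T) [IsOpenImmersion j]
    {g : T ⟶ Spec (CommRingCat.of R)} (hg : Good f g) : Good f (j ≫ g) := by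
  rw [Good, Scheme.IdealSheafData.comap_comp]
  exact EffCartier.isEffCartier_comap_of_flat j hg

include e in
/-- Lifts exist. -/
theorem exists_hom (hn : 1 ≤ n) {T : Scheme.{u}} {g : T ⟶ Spec (CommRingCat.of R)}
    (hg : Good f g) : ∃ h : T ⟶ Q.left, h ≫ Q.hom = g := by
  have hg' := hg
  choose U hxU β hβ hU using hg'
  have hcov : TopologicalSpace.IsOpenCover (fun x : T => (U x).1) :=
    eq_top_iff.2 fun x _ => TopologicalSpace.Opens.mem_iSup.2 ⟨x, hxU x⟩
  let 𝒰 := T.openCoverOfIsOpenCover _ hcov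
  choose k hk hk' using fun x => existsUnique_chart e hn g (U x) (hβ x) (hU x)
  let F : ∀ x, 𝒰.X x ⟶ Q.left := fun x => (U x).2.isoSpec.hom ≫ k x
  have hF : ∀ x, F x ≫ Q.hom = 𝒰.f x ≫ g := fun x => by
    show ((U x).2.isoSpec.hom ≫ k x) ≫ Q.hom = (U x).1.ι ≫ g
    rw [Category.assoc, hk x, ← (U x).2.isoSpec_inv_ι, Category.assoc, Iso.hom_inv_id_assoc]
  refine ⟨Scheme.Cover.glueMorphisms 𝒰 F fun x y => ?_, ?_⟩
  · haveI : IsOpenImmersion (𝒰.f x) := inferInstance
    refine hom_unique e hn (Good.comp (pullback.fst (𝒰.f x) (𝒰.f y) ≫ 𝒰.f x) hg) ?_ ?_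
    · rw [Category.assoc, hF, Category.assoc]
    · rw [Category.assoc, hF, Category.assoc, pullback.condition_assoc]
  · refine Scheme.Cover.hom_ext 𝒰 _ _ fun x => ?_
    rw [Scheme.Cover.ι_glueMorphisms_assoc, hF]

include he in
/-- **The scheme of hyperplane quotients is the blow-up.** -/
theorem isBlowUp (hf : LCI.IsKoszulRegularSeq R (List.ofFn f)) (hn : 1 ≤ n) :
    BlowUp.IsBlowUp Q.hom
      (Spec.map (CommRingCat.ofHom (Ideal.Quotient.mk (Ideal.span (Set.range f))))).ker := by
  refine ⟨isEffCartier e he hf hn, fun T g hg => ?_⟩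
  obtain ⟨h, hh⟩ := exists_hom e hn hg
  exact ⟨h, hh, fun h' hh' => hom_unique e hn hg hh' hh⟩

end Universal

end Groth.Agent.H25.QuotLine.Scheme
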